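import Cfsg.Agent.H333.OZ.Sp63Data
import Cfsg.Agent.H376.SpEmb
import Cfsg.Agent.H277.ClsPsp
import Cfsg.Agent.LieClassical.FieldTransfer
import Cfsg.Agent.H672.OZ.Sieve
import Cfsg.Agent.H732.VZ.Exc
import Cfsg.Agent.H730.OZ.Asm

/-!
# One vanishing class: `PSp_6(3)` (helper333, S4842)

`|G| = 2^9 3^9 5 7 13`. The isolated prime 13 and `|C(z)| = 14` for `z` of order 7 leave the degrees
27, 729, 64, 1728. Burnside's theorem and the subgroup `M = Sp_2(3) ∘ Sp_4(3)` (index `3^4 7 13`)
finish: `3 ^ 9 ∣ |C(x)|` for 27, 729, `|M| ≤ |C(x)|` for 64, `8 ≤ |C(x)|` for 1728.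
-/

set_option autoImplicit false
set_option maxRecDepth 100000

open Cfsg Cfsg.Agent.Characters Cfsg.Agent.H732.VZ Cfsg.Agent.H604.OZ

namespace Cfsg.Agent.H333.OZ

universe u

/-! ### general group theory -/

section gen

variable {G : Type u} [Group G]

/-- a `p`-element is conjugate into a subgroup of index prime to `p` -/
theorem exists_conj_mem [Finite G] {p : ℕ} (hp : p.Prime) {M : Subgroup G} (hM : ¬ p ∣ M.index) {x : G} {k : ℕ}
    (hx : x ^ p ^ k = 1) : ∃ y ∈ M, IsConj x y := by
  have : Fact p.Prime := ⟨hp⟩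
  have hP : IsPGroup p (Subgroup.zpowers x) := by
    intro g
    obtain ⟨n, hn⟩ := Subgroup.mem_zpowers_iff.1 g.2
    refine ⟨k, ?_⟩
    apply Subtype.ext
    change (g : G) ^ p ^ k = 1
    rw [← hn, ← zpow_natCast, ← zpow_mul, mul_comm, zpow_mul, zpow_natCast, hx, one_zpow]
  have hfin : Finite (G ⧸ M) := inferInstance
  have h1 := hP.nonempty_fixed_point_of_prime_not_dvd_card (G ⧸ M) (by rwa [← Subgroup.index_eq_card])
  obtain ⟨q, hq⟩ := h1
  obtain ⟨g, rfl⟩ := QuotientGroup.mk_surjective q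
  have h2 := hq ⟨x, Subgroup.mem_zpowers x⟩
  have h3 : (QuotientGroup.mk (x * g) : G ⧸ M) = QuotientGroup.mk g := h2
  rw [eq_comm, QuotientGroup.eq] at h3
  refine ⟨_, h3, isConj_iff.2 ⟨g⁻¹, ?_⟩⟩
  group

/-- a central involution: every centralizer has at least four elements -/
theorem four_le_of_central [Finite G] {z : G} (hz : z ∈ Subgroup.center G) (hz1 : z ≠ 1) (hz2 : z * z = 1)
    (hG : 4 ≤ Nat.card G) (a : G) : 4 ≤ Nat.card (Subgroup.centralizer ({a} : Set G)) := by
  have hc := Subgroup.mem_center_iff.1 hz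
  by_cases ha : a = 1 ∨ a = z
  · have h1 : Subgroup.centralizer ({a} : Set G) = ⊤ := by
      rw [eq_top_iff]
      intro g _
      rw [mem_cent']
      rcases ha with rfl | rfl
      · simp
      · exact hc g
    rw [h1, Nat.card_congr Subgroup.topEquiv.toEquiv]
    exact hG
  · push Not at ha
    have m1 : (1 : G) ∈ Subgroup.centralizer ({a} : Set G) := one_mem _
    have m2 : z ∈ Subgroup.centralizer ({a} : Set G) := mem_cent'.2 (hc a).symm
    have m3 : a ∈ Subgroup.centralizer ({a} : Set G) := mem_cent'.2 rfl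
    have m4 : a * z ∈ Subgroup.centralizer ({a} : Set G) := mul_mem m3 m2
    let f : Fin 4 → Subgroup.centralizer ({a} : Set G) := ![⟨1, m1⟩, ⟨z, m2⟩, ⟨a, m3⟩, ⟨a * z, m4⟩]
    have hf : Function.Injective f := by
      have e1 : a * z ≠ 1 := fun h => ha.2 (by
        have := congrArg (· * z) h
        simpa [mul_assoc, hz2] using this)
      have e2 : a * z ≠ z := fun h => ha.1 (by simpa using h)
      have e3 : a * z ≠ a := fun h => hz1 (by simpa using h)
      intro i j hij
      fin_cases i <;> fin_cases j <;> first | rfl | (exfalso; have hij' := congrArg Subtype.val hij; simp only [f, Fin.mk_one, Fin.zero_eta,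
        Fin.isValue, Fin.reduceFinMk, Matrix.cons_val] at hij')
      · exact hz1 hij'.symm
      · exact ha.1 hij'.symm
      · exact e1 hij'.symm
      · exact hz1 hij'
      · exact ha.2 hij'.symm
      · exact e2 hij'.symm
      · exact ha.1 hij'
      · exact ha.2 hij'
      · exact e3 hij'.symm
      · exact e1 hij'
      · exact e2 hij'
      · exact e3 hij'
    have h1 := Nat.card_le_card_of_injective f hf
    simpa using h1

end gen

section Msub

/-- `Sp_2(3)` -/
abbrev SA : Type := Matrix.symplecticGroup (Fin 1) (ZMod 3)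

/-- `Sp_4(3)` -/
abbrev SB : Type := Matrix.symplecticGroup (Fin 2) (ZMod 3)

/-- `Sp_6(3)` -/
abbrev SC : Type := Matrix.symplecticGroup (Fin 3) (ZMod 3)

/-- `Sp_2(3) × Sp_4(3) → Sp_6(3)` -/
def Phi0 : SA × SB →* SC :=
  (H376.SpEmb.reidx (finSumFinEquiv (m := 1) (n := 2))).comp (H376.SpEmb.blk (Fin 1) (Fin 2))

theorem Phi0_inj : Function.Injective Phi0 :=
  (H376.SpEmb.reidx_injective _).comp (H376.SpEmb.blk_injective _ _)

theorem Phi0_neg : Phi0 (neg1 1 (ZMod 3), neg1 2 (ZMod 3)) = neg1 3 (ZMod 3) := by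
  apply Subtype.ext
  change ((Phi0 (neg1 1 (ZMod 3), neg1 2 (ZMod 3)) : SC) : M63) = -1
  decide +kernel

/-- `Sp_2(3) × Sp_4(3) → PSp_6(3)` -/
def Phi : SA × SB →* PSp 3 (ZMod 3) := (QuotientGroup.mk' (Subgroup.center SC)).comp Phi0

theorem mem_ker_Phi {p : SA × SB} : p ∈ Phi.ker ↔ p = 1 ∨ p = (neg1 1 (ZMod 3), neg1 2 (ZMod 3)) := by
  rw [MonoidHom.mem_ker]
  constructor
  · intro h
    have h1 : Phi0 p ∈ Subgroup.center SC := (QuotientGroup.eq_one_iff _).1 h
    rcases ClassicalGeometry.SympInvolutions.center_eq h1 with h2 | h2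
    · left
      apply Phi0_inj
      rw [map_one]
      exact Subtype.ext h2
    · right
      apply Phi0_inj
      rw [Phi0_neg]
      exact Subtype.ext h2
  · rintro (rfl | rfl)
    · exact map_one _
    · refine (QuotientGroup.eq_one_iff _).2 ?_
      rw [Phi0_neg]
      exact neg1_center

theorem two_ne : (2 : ZMod 3) ≠ 0 := by decide

theorem card_SA : Nat.card SA = 24 := by
  rw [S0245.result (F := ZMod 3) (q := 3) (ZMod.card 3) 1]
  rfl

theorem card_SB : Nat.card SB = 51840 := by
  rw [S0245.result (F := ZMod 3) (q := 3) (ZMod.card 3) 2]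
  rfl

theorem card_G : Nat.card (PSp 3 (ZMod 3)) = 4585351680 := by
  have h := H277.ClsPsp.card_psp (F := ZMod 3) (q := 3) (ZMod.card 3) (m := 3) (by norm_num)
  rw [show 3 ^ (3 ^ 2) * ∏ i ∈ Finset.range 3, (3 ^ (2 * (i + 1)) - 1) = 9170703360 by decide +kernel,
    show Nat.gcd 2 (3 - 1) = 2 by decide] at h
  omega

theorem card_ker_Phi : Nat.card Phi.ker = 2 := by
  have h1 : (Phi.ker : Set (SA × SB)) = {1, (neg1 1 (ZMod 3), neg1 2 (ZMod 3))} := by
    ext p
    exact mem_ker_Phi
  have h2 : Nat.card Phi.ker = ((Phi.ker : Set (SA × SB))).ncard := rfl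
  rw [h2, h1, Set.ncard_pair]
  intro h
  exact neg1_ne (F := ZMod 3) (m := 1) le_rfl two_ne (congrArg Prod.fst h).symm

theorem card_range_Phi : Nat.card Phi.range = 622080 := by
  have h1 : Nat.card Phi.ker * Nat.card Phi.range = Nat.card (SA × SB) := by
    rw [← Subgroup.index_ker Phi, Subgroup.card_mul_index]
  rw [Nat.card_prod, card_SA, card_SB, card_ker_Phi] at h1
  omega

theorem index_range_Phi : Phi.range.index = 7371 := by
  have h1 := Subgroup.card_mul_index Phi.range
  rw [card_range_Phi, card_G] at h1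
  omega

/-- the involution centralized by `M` -/
def tinv : PSp 3 (ZMod 3) := Phi (neg1 1 (ZMod 3), 1)

theorem tinv_ne : tinv ≠ 1 := by
  intro h
  have h1 : ((neg1 1 (ZMod 3), 1) : SA × SB) ∈ Phi.ker := h
  rcases mem_ker_Phi.1 h1 with h2 | h2
  · exact neg1_ne (F := ZMod 3) (m := 1) le_rfl two_ne (congrArg Prod.fst h2)
  · exact neg1_ne (F := ZMod 3) (m := 2) (by norm_num) two_ne (congrArg Prod.snd h2).symm

theorem range_le_tinv : Phi.range ≤ Subgroup.centralizer ({tinv} : Set (PSp 3 (ZMod 3))) := by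
  rintro _ ⟨p, rfl⟩
  rw [mem_cent', tinv, ← map_mul, ← map_mul]
  congr 1
  refine Prod.ext ?_ ?_
  · exact Subgroup.mem_center_iff.1 neg1_center p.1
  · change p.2 * 1 = 1 * p.2
    rw [mul_one, one_mul]

/-- the centralizers of the elements of `M` -/
theorem eight_le (p : SA × SB) : 8 ≤ Nat.card (Subgroup.centralizer ({Phi p} : Set (PSp 3 (ZMod 3)))) := by
  have hA : Finite SA := finite_sp
  have hB : Finite SB := finite_sp
  have sq : ∀ m : ℕ, neg1 m (ZMod 3) * neg1 m (ZMod 3) = 1 := by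
    intro m
    apply Subtype.ext
    change (-1 : Matrix (Fin m ⊕ Fin m) (Fin m ⊕ Fin m) (ZMod 3)) * -1 = 1
    rw [neg_mul_neg, one_mul]
  have h1 : 4 ≤ Nat.card (Subgroup.centralizer ({p.1} : Set SA)) :=
    four_le_of_central neg1_center (neg1_ne (F := ZMod 3) (m := 1) le_rfl two_ne) (sq 1) (by rw [card_SA]; norm_num) _
  have h2 : 4 ≤ Nat.card (Subgroup.centralizer ({p.2} : Set SB)) :=
    four_le_of_central neg1_center (neg1_ne (F := ZMod 3) (m := 2) (by norm_num) two_ne) (sq 2)
      (by rw [card_SB]; norm_num) _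
  -- the product of the centralizers
  let D : Subgroup (SA × SB) := (Subgroup.centralizer ({p.1} : Set SA)).prod (Subgroup.centralizer ({p.2} : Set SB))
  have hD : Nat.card D = Nat.card (Subgroup.centralizer ({p.1} : Set SA)) *
      Nat.card (Subgroup.centralizer ({p.2} : Set SB)) := by
    rw [← Nat.card_prod]
    exact Nat.card_congr (Subgroup.prodEquiv _ _).toEquiv
  have h3 : 16 ≤ Nat.card D := by
    rw [hD]
    exact Nat.mul_le_mul h1 h2
  have h4 : D.map Phi ≤ Subgroup.centralizer ({Phi p} : Set (PSp 3 (ZMod 3))) := by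
    rintro _ ⟨d, hd, rfl⟩
    rw [mem_cent', ← map_mul, ← map_mul]
    congr 1
    exact Prod.ext (mem_cent'.1 hd.1) (mem_cent'.1 hd.2)
  have h5 : Nat.card D ≤ 2 * Nat.card (D.map Phi) := by
    have h6 : Nat.card (Phi.comp D.subtype).ker * Nat.card (Phi.comp D.subtype).range = Nat.card D := by
      rw [← Subgroup.index_ker (Phi.comp D.subtype), Subgroup.card_mul_index]
    have h7 : (Phi.comp D.subtype).range = D.map Phi := by
      rw [MonoidHom.range_comp, Subgroup.range_subtype]
    have h8 : Nat.card (Phi.comp D.subtype).ker ≤ 2 := by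
      refine le_of_le_of_eq ?_ card_ker_Phi
      have hfin : Finite Phi.ker := inferInstance
      refine Nat.card_le_card_of_injective (fun y => (⟨((y : D) : SA × SB), y.2⟩ : Phi.ker)) ?_
      intro y y' hyy
      apply Subtype.ext
      apply Subtype.ext
      exact congrArg (fun z : Phi.ker => (z : SA × SB)) hyy
    rw [← h6, h7]
    exact Nat.mul_le_mul_right _ h8
  have hfinC : Finite (Subgroup.centralizer ({Phi p} : Set (PSp 3 (ZMod 3)))) := by
    have : Finite SC := finite_sp
    infer_instance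
  have h9 := Subgroup.card_le_of_le h4
  omega

end Msub

/-! ### the elements of order 7 and 13 -/

section elements

/-- the group is large -/
theorem mk_ne_one {z : SC} (h : 2 * Nat.card (Subgroup.centralizer ({(QuotientGroup.mk z : PSp 3 (ZMod 3))} :
    Set (PSp 3 (ZMod 3)))) ≤ 28) : (QuotientGroup.mk z : PSp 3 (ZMod 3)) ≠ 1 := by
  intro h1
  rw [h1] at h
  have h2 : Subgroup.centralizer ({(1 : PSp 3 (ZMod 3))} : Set (PSp 3 (ZMod 3))) = ⊤ := by
    rw [eq_top_iff]
    intro g _
    rw [mem_cent', mul_one, one_mul]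
  rw [h2, Nat.card_congr Subgroup.topEquiv.toEquiv, card_G] at h
  omega

/-- **an element of order 13** -/
theorem exists_13 : ∃ z : PSp 3 (ZMod 3), orderOf z = 13 ∧
    Nat.card (Subgroup.centralizer ({z} : Set (PSp 3 (ZMod 3)))) ≤ 13 := by
  have h1 := card_quot (F := ZMod 3) (m := 3) (by norm_num) two_ne (z := a13s) (r := 13) (by decide) a13s_pow
  have h2 := a13_cent
  have h3 : 2 * Nat.card (Subgroup.centralizer ({(QuotientGroup.mk a13s : PSp 3 (ZMod 3))} :
    Set (PSp 3 (ZMod 3)))) ≤ 26 := h1.trans h2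
  refine ⟨QuotientGroup.mk a13s, ?_, by omega⟩
  have : Fact (Nat.Prime 13) := ⟨by norm_num⟩
  refine orderOf_eq_prime ?_ (mk_ne_one (by omega))
  have h4 := congrArg (QuotientGroup.mk' (Subgroup.center SC)) a13s_pow
  rw [map_pow, map_one] at h4
  exact h4

/-- **an element of order 7** -/
theorem exists_7 : ∃ z : PSp 3 (ZMod 3), orderOf z = 7 ∧
    Nat.card (Subgroup.centralizer ({z} : Set (PSp 3 (ZMod 3)))) = 14 := by
  have h1 := card_quot (F := ZMod 3) (m := 3) (by norm_num) two_ne (z := a7s) (r := 7) (by decide) a7s_pow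
  have h2 := a7_cent
  have h3 : 2 * Nat.card (Subgroup.centralizer ({(QuotientGroup.mk a7s : PSp 3 (ZMod 3))} :
    Set (PSp 3 (ZMod 3)))) ≤ 28 := h1.trans h2
  have hfin : Finite SC := finite_sp
  have : Fact (Nat.Prime 7) := ⟨by norm_num⟩
  have h5 : orderOf (QuotientGroup.mk a7s : PSp 3 (ZMod 3)) = 7 := by
    refine orderOf_eq_prime ?_ (mk_ne_one (by omega))
    have h4 := congrArg (QuotientGroup.mk' (Subgroup.center SC)) a7s_pow
    rw [map_pow, map_one] at h4
    exact h4
  refine ⟨QuotientGroup.mk a7s, h5, ?_⟩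
  have h6 : 7 ∣ Nat.card (Subgroup.centralizer ({(QuotientGroup.mk a7s : PSp 3 (ZMod 3))} :
      Set (PSp 3 (ZMod 3)))) := by
    rw [← h5]
    exact Subgroup.orderOf_dvd_natCard _ (mem_cent'.2 rfl)
  have h7 : 2 ∣ Nat.card (Subgroup.centralizer ({(QuotientGroup.mk a7s : PSp 3 (ZMod 3))} :
      Set (PSp 3 (ZMod 3)))) := by
    have e1 : a4s * a4s = neg1 3 (ZMod 3) := Subtype.ext a4_sq
    have e2 : a4s * a7s = a7s * a4s := Subtype.ext a4_comm
    have e3 : orderOf (QuotientGroup.mk a4s : PSp 3 (ZMod 3)) = 2 := by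
      have : Fact (Nat.Prime 2) := ⟨Nat.prime_two⟩
      refine orderOf_eq_prime ?_ ?_
      · rw [pow_two]
        exact (QuotientGroup.eq_one_iff (a4s * a4s)).2 (by rw [e1]; exact neg1_center)
      · intro h8
        have h9 : a4s ∈ Subgroup.center SC := (QuotientGroup.eq_one_iff _).1 h8
        have h10 : a4s * a4s = 1 := by
          apply Subtype.ext
          change (a4s : M63) * (a4s : M63) = 1
          rcases ClassicalGeometry.SympInvolutions.center_eq h9 with h | h <;> rw [h] <;> simp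
        rw [e1] at h10
        exact neg1_ne (F := ZMod 3) (m := 3) (by norm_num) two_ne h10
    rw [← e3]
    refine Subgroup.orderOf_dvd_natCard _ (mem_cent'.2 ?_)
    have h8 := congrArg (QuotientGroup.mk' (Subgroup.center SC)) e2
    rw [map_mul, map_mul] at h8
    exact h8
  have hpos : 0 < Nat.card (Subgroup.centralizer ({(QuotientGroup.mk a7s : PSp 3 (ZMod 3))} :
      Set (PSp 3 (ZMod 3)))) := Nat.card_pos
  omega

end elements

/-! ### the row -/

section row

theorem val_N : Cfsg.Agent.H417.Divs.val [(2, 9), (3, 9), (5, 1), (7, 1), (13, 1)] = 4585351680 := by decide +kernel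

theorem notComm : ¬ IsMulCommutative (PSp 3 (ZMod 3)) := by
  intro h
  obtain ⟨z, -, hz⟩ := exists_7
  have h2 : Subgroup.centralizer ({z} : Set (PSp 3 (ZMod 3))) = ⊤ := by
    rw [eq_top_iff]
    intro g _
    rw [mem_cent']
    exact h.is_comm.comm g z
  rw [h2, Nat.card_congr Subgroup.topEquiv.toEquiv, card_G] at hz
  omega

theorem row_zmod [Finite (PSp 3 (ZMod 3))] [IsSimpleGroup (PSp 3 (ZMod 3))] : H730.OZ.Row (PSp 3 (ZMod 3)) := by
  have hN := card_G
  refine row_of fun χ x h => ?_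
  have h4 : 4 ≤ cent x := four_le_cent h (by rw [hN]; norm_num) (by rw [hN]; norm_num)
  obtain ⟨z7, hz7, hc7⟩ := exists_7
  obtain ⟨z13, hz13, hc13⟩ := exists_13
  have hiso : ∀ r ∈ [7, 13], charDegree (χ : PSp 3 (ZMod 3) → ℂ) % r = 0 ∨
      charDegree (χ : PSp 3 (ZMod 3) → ℂ) % r = 1 ∨ charDegree (χ : PSp 3 (ZMod 3) → ℂ) % r = r - 1 := by
    intro r hr
    simp only [List.mem_cons, List.not_mem_nil, or_false] at hr
    rcases hr with rfl | rfl
    · exact Or.inr (H672.OZ.two_mod_of h (by norm_num) le_rfl (by rw [hN]; norm_num) (by rw [hN]; norm_num)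
        (by rw [hN]; norm_num) hz7 hc7 h4)
    · exact H672.OZ.iso_mod_of h (by norm_num) (by norm_num) (by rw [hN]; norm_num) (by rw [hN]; norm_num) hz13 hc13 h4
  have hm := H672.OZ.mem_of_sieve4 h hN val_N
    (by
      intro x hx
      simp only [List.mem_cons, List.not_mem_nil, or_false] at hx
      rcases hx with rfl | rfl | rfl | rfl | rfl <;> norm_num)
    (by decide +kernel) h4 hiso (D := [27, 729, 64, 1728]) (by decide +kernel)
  have := Fintype.ofFinite (PSp 3 (ZMod 3))
  have hna := notComm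
  -- Burnside at 3
  have burn3 : ∀ k : ℕ, charDegree (χ : PSp 3 (ZMod 3) → ℂ) = 3 ^ k → 3 ^ 9 ≤ cent x := by
    intro k hk
    obtain ⟨g, hg, hgi⟩ := exists_central (G := PSp 3 (ZMod 3)) (r := 3) Nat.prime_three (by rw [hN]; norm_num)
    have hg1 : g ≠ 1 := by
      rintro rfl
      rw [orderOf_one] at hg
      omega
    have h0 := eq_zero_of_coprime hna χ h.zero hg1 (by
      rw [hk]
      exact ((Nat.Prime.coprime_iff_not_dvd Nat.prime_three).2 hgi).symm.pow_right k)
    have hcon := h.uniq g h0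
    rw [H672.OZ.cent_eq_of_conj hcon]
    refine Nat.le_of_dvd Nat.card_pos ?_
    have h5 := Subgroup.card_mul_index (Subgroup.centralizer ({g} : Set (PSp 3 (ZMod 3))))
    refine (Nat.Coprime.pow_left 9 ((Nat.Prime.coprime_iff_not_dvd Nat.prime_three).2 hgi)).dvd_of_dvd_mul_right ?_
    rw [h5, hN]
    norm_num
  simp only [List.mem_cons, List.not_mem_nil, or_false] at hm
  rcases hm with hd | hd | hd | hd
  · have h5 := H672.OZ.cent_le_of h hN (r := 5) (n := 1) (by norm_num) hd (by norm_num) (by norm_num) (by norm_num)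
    have h6 := burn3 3 hd
    norm_num at h5 h6
    omega
  · have h5 := H672.OZ.cent_le_of h hN (r := 2) (n := 9) (by norm_num) hd (by norm_num) (by norm_num) (by norm_num)
    have h6 := burn3 6 hd
    norm_num at h5 h6
    omega
  · have h5 := H672.OZ.cent_le_of h hN (r := 2) (n := 9) (by norm_num) hd (by norm_num) (by norm_num) (by norm_num)
    have hodd : Nat.Coprime (Subgroup.centralizer ({tinv} : Set (PSp 3 (ZMod 3)))).index
        (charDegree (χ : PSp 3 (ZMod 3) → ℂ)) := by
      have h6 : (Subgroup.centralizer ({tinv} : Set (PSp 3 (ZMod 3)))).index ∣ 7371 := by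
        rw [← index_range_Phi]
        exact Subgroup.index_dvd_of_le range_le_tinv
      rw [hd]
      exact Nat.Coprime.coprime_dvd_left h6 (by norm_num)
    have h0 := eq_zero_of_coprime hna χ h.zero tinv_ne hodd
    have h7 := H672.OZ.cent_eq_of_conj (h.uniq _ h0)
    have h8 := Subgroup.card_le_of_le range_le_tinv
    rw [card_range_Phi] at h8
    change 622080 ≤ cent tinv at h8
    norm_num at h5
    omega
  · have h5 := H672.OZ.cent_le_of h hN (r := 5) (n := 1) (by norm_num) hd (by norm_num) (by norm_num) (by norm_num)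
    rw [pow_one] at h5
    have hxp : ∃ p k : ℕ, p.Prime ∧ ¬ p ∣ 7371 ∧ x ^ p ^ k = 1 := by
      have h6 : x ^ cent x = 1 := by
        rw [← orderOf_dvd_iff_pow_eq_one]
        exact Subgroup.orderOf_dvd_natCard _ (mem_cent'.2 rfl)
      rcases (by omega : cent x = 4 ∨ cent x = 5) with h7 | h7
      · rw [h7] at h6
        exact ⟨2, 2, Nat.prime_two, by norm_num, h6⟩
      · rw [h7] at h6
        exact ⟨5, 1, by norm_num, by norm_num, by rw [pow_one]; exact h6⟩
    obtain ⟨p, k, hp, hpi, hxk⟩ := hxp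
    obtain ⟨y, ⟨q, rfl⟩, hy⟩ := exists_conj_mem hp (by rw [index_range_Phi]; exact hpi) hxk
    have h7 := H672.OZ.cent_eq_of_conj hy
    have h8 := eight_le q
    change 8 ≤ cent (Phi q) at h8
    omega

/-- **`PSp_6(3)`.** -/
theorem row_psp6_3 (F : Type) [Field F] [Fintype F] (hF : Fintype.card F = 3) (hs : IsSimpleGroup (PSp 3 F)) :
    H730.OZ.Row (PSp 3 F) := by
  have : Fact (Nat.Prime 3) := ⟨Nat.prime_three⟩
  have e : F ≃+* ZMod 3 := (FiniteField.ringEquivOfCardEq (by rw [hF, ZMod.card])) 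
  have hfin : Finite (PSp 3 F) := by
    have : Finite (Matrix.symplecticGroup (Fin 3) F) := finite_sp
    infer_instance
  have hfin' : Finite (PSp 3 (ZMod 3)) := by
    have : Finite SC := finite_sp
    infer_instance
  let f : PSp 3 F ≃* PSp 3 (ZMod 3) := LieClassical.FieldTransfer.pspCongr 3 e
  have hs' : IsSimpleGroup (PSp 3 (ZMod 3)) := f.symm.isSimpleGroup
  exact H730.OZ.Row.congr f row_zmod

end row

end Cfsg.Agent.H333.OZ
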