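import Cfsg.Agent.H333.OZ.SpCent
import Cfsg.Agent.S0245

/-!
# Elements of order 7 and 13 of `PSp_6(3)` and their centralizers (helper333, S4842)

The elements are explicit matrices with a cyclic vector; `SpCent.card_cent_le` reduces the bound of the
centralizer to a count in `(ZMod 3) ^ 6` by the kernel.
-/

set_option autoImplicit false
set_option maxRecDepth 100000

open Matrix Cfsg

namespace Cfsg.Agent.H333.OZ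

/-- the matrices of `Sp_6(3)` -/
abbrev M63 : Type := Matrix (Fin 3 ⊕ Fin 3) (Fin 3 ⊕ Fin 3) (ZMod 3)

/-- the cyclic vector -/
def v63 : Fin 3 ⊕ Fin 3 → ZMod 3 := Sum.elim ![1, 0, 0] ![0, 0, 0]

/-- the coordinates -/
abbrev T63 : Type := ZMod 3 × ZMod 3 × ZMod 3 × ZMod 3 × ZMod 3 × ZMod 3

/-- the vector with given coordinates -/
def vec63 (a : T63) : Fin 3 ⊕ Fin 3 → ZMod 3 :=
  Sum.elim ![a.1, a.2.1, a.2.2.1] ![a.2.2.2.1, a.2.2.2.2.1, a.2.2.2.2.2]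

/-- the coordinates of a vector -/
def co63 (b : Fin 3 ⊕ Fin 3 → ZMod 3) : T63 :=
  (b (Sum.inl 0), b (Sum.inl 1), b (Sum.inl 2), b (Sum.inr 0), b (Sum.inr 1), b (Sum.inr 2))

theorem vec_co63 (b : Fin 3 ⊕ Fin 3 → ZMod 3) : vec63 (co63 b) = b := by
  funext i
  rcases i with i | i <;> fin_cases i <;> rfl

theorem co63_inj : Function.Injective co63 := fun a b h => by
  rw [← vec_co63 a, ← vec_co63 b, h]

/-- an element of order 7 -/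
def a7 : M63 := fromBlocks !![1, 2, 1; 0, 0, 0; 2, 2, 2] !![2, 0, 1; 1, 0, 2; 1, 1, 0]
    !![0, 0, 0; 1, 0, 2; 0, 0, 0] !![1, 1, 1; 1, 2, 2; 2, 1, 2]

/-- the cyclic basis -/
def a7E : M63 := fromBlocks !![1, 1, 0; 0, 0, 0; 0, 2, 1] !![1, 1, 1; 0, 1, 1; 1, 2, 2]
    !![0, 0, 1; 0, 1, 1; 0, 0, 1] !![0, 0, 2; 1, 0, 0; 2, 2, 1]

/-- the inverse -/
def a7Ei : M63 := fromBlocks !![1, 2, 2; 0, 1, 1; 0, 0, 2] !![2, 1, 1; 0, 2, 0; 2, 2, 1]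
    !![0, 2, 0; 0, 1, 1; 0, 0, 2] !![1, 0, 2; 2, 1, 2; 1, 2, 1]

/-- the form `ω(x, z ^ 1 y)` -/
def a7M1 : M63 := fromBlocks !![0, 0, 0; 2, 0, 1; 0, 0, 0] !![2, 2, 2; 2, 1, 1; 1, 2, 1]
    !![1, 2, 1; 0, 0, 0; 2, 2, 2] !![2, 0, 1; 1, 0, 2; 1, 1, 0]

/-- the form `ω(x, z ^ 2 y)` -/
def a7M2 : M63 := fromBlocks !![2, 0, 1; 2, 0, 0; 2, 0, 1] !![2, 2, 1; 1, 0, 2; 2, 0, 1]
    !![0, 1, 0; 0, 0, 0; 1, 2, 2] !![0, 1, 0; 2, 0, 2; 1, 2, 0]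

/-- the form `ω(x, z ^ 3 y)` -/
def a7M3 : M63 := fromBlocks !![0, 0, 2; 2, 1, 2; 1, 0, 1] !![2, 2, 1; 0, 0, 1; 0, 1, 0]
    !![1, 0, 2; 0, 0, 0; 1, 0, 0] !![2, 2, 1; 0, 1, 0; 0, 1, 1]

/-- the power 2 -/
def a7P2 : M63 := fromBlocks !![0, 1, 0; 0, 0, 0; 1, 2, 2] !![0, 1, 0; 2, 0, 2; 1, 2, 0]
    !![1, 0, 2; 1, 0, 0; 1, 0, 2] !![1, 1, 2; 2, 0, 1; 1, 0, 2]

/-- the power 4 -/
def a7P4 : M63 := fromBlocks !![1, 0, 0; 1, 0, 2; 2, 2, 0] !![1, 0, 0; 1, 2, 2; 2, 0, 2]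
    !![0, 2, 1; 0, 1, 0; 2, 2, 1] !![1, 0, 1; 0, 0, 0; 2, 0, 0]

/-- the power 6 -/
def a7P6 : M63 := fromBlocks !![1, 1, 2; 1, 2, 1; 1, 2, 2] !![1, 2, 2; 0, 0, 2; 2, 1, 0]
    !![0, 2, 0; 0, 0, 0; 0, 1, 0] !![1, 0, 2; 2, 0, 2; 1, 0, 2]

theorem a7_sp : a7 * J (Fin 3) (ZMod 3) * a7ᵀ = J (Fin 3) (ZMod 3) := by decide +kernel

theorem a7_E : a7E * a7Ei = 1 := by decide +kernel

theorem a7_M1 : J (Fin 3) (ZMod 3) * a7 = a7M1 := by decide +kernel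

theorem a7_M2 : a7M1 * a7 = a7M2 := by decide +kernel

theorem a7_M3 : a7M2 * a7 = a7M3 := by decide +kernel

theorem a7_P2 : a7 * a7 = a7P2 := by decide +kernel

theorem a7_P4 : a7P2 * a7P2 = a7P4 := by decide +kernel

theorem a7_P6 : a7P4 * a7P2 = a7P6 := by decide +kernel

theorem a7_P7 : a7P6 * a7 = 1 := by decide +kernel

theorem a7_pow : a7 ^ 7 = 1 := by
  have h2 : a7 ^ 2 = a7P2 := by rw [pow_two, a7_P2]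
  have h4 : a7 ^ 4 = a7P4 := by rw [show (4 : ℕ) = 2 + 2 from rfl, pow_add, h2, a7_P4]
  have h6 : a7 ^ 6 = a7P6 := by rw [show (6 : ℕ) = 4 + 2 from rfl, pow_add, h4, h2, a7_P6]
  rw [show (7 : ℕ) = 6 + 1 from rfl, pow_add, h6, pow_one, a7_P7]

/-- the vectors with the same products -/
def a7T : Finset T63 := Finset.univ.filter fun a =>
  vec63 a ⬝ᵥ (a7M1 *ᵥ vec63 a) = 0 ∧ vec63 a ⬝ᵥ (a7M2 *ᵥ vec63 a) = 2 ∧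
    vec63 a ⬝ᵥ (a7M3 *ᵥ vec63 a) = 0

theorem a7_card : a7T.card = 28 := by decide +kernel

theorem a7_v1 : v63 ⬝ᵥ (a7M1 *ᵥ v63) = 0 := by decide +kernel

theorem a7_v2 : v63 ⬝ᵥ (a7M2 *ᵥ v63) = 2 := by decide +kernel

theorem a7_v3 : v63 ⬝ᵥ (a7M3 *ᵥ v63) = 0 := by decide +kernel

theorem a7_col0 : (fun i => a7E i (Sum.inl 0)) = v63 := by decide +kernel

theorem a7_col1 : (fun i => a7E i (Sum.inl 1)) = a7 *ᵥ (fun i => a7E i (Sum.inl 0)) := by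
  decide +kernel

theorem a7_col2 : (fun i => a7E i (Sum.inl 2)) = a7 *ᵥ (fun i => a7E i (Sum.inl 1)) := by
  decide +kernel

theorem a7_col3 : (fun i => a7E i (Sum.inr 0)) = a7 *ᵥ (fun i => a7E i (Sum.inl 2)) := by
  decide +kernel

theorem a7_col4 : (fun i => a7E i (Sum.inr 1)) = a7 *ᵥ (fun i => a7E i (Sum.inr 0)) := by
  decide +kernel

theorem a7_col5 : (fun i => a7E i (Sum.inr 2)) = a7 *ᵥ (fun i => a7E i (Sum.inr 1)) := by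
  decide +kernel

theorem a7_col (j : Fin 3 ⊕ Fin 3) : ∃ n : ℕ, (fun i => a7E i j) = a7 ^ n *ᵥ v63 := by
  have h0 : (fun i => a7E i (Sum.inl 0)) = a7 ^ 0 *ᵥ v63 := by
    rw [pow_zero, one_mulVec, a7_col0]
  have h1 : (fun i => a7E i (Sum.inl 1)) = a7 ^ 1 *ᵥ v63 := by
    rw [a7_col1, h0, mulVec_mulVec, ← pow_succ']
  have h2 : (fun i => a7E i (Sum.inl 2)) = a7 ^ 2 *ᵥ v63 := by
    rw [a7_col2, h1, mulVec_mulVec, ← pow_succ']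
  have h3 : (fun i => a7E i (Sum.inr 0)) = a7 ^ 3 *ᵥ v63 := by
    rw [a7_col3, h2, mulVec_mulVec, ← pow_succ']
  have h4 : (fun i => a7E i (Sum.inr 1)) = a7 ^ 4 *ᵥ v63 := by
    rw [a7_col4, h3, mulVec_mulVec, ← pow_succ']
  have h5 : (fun i => a7E i (Sum.inr 2)) = a7 ^ 5 *ᵥ v63 := by
    rw [a7_col5, h4, mulVec_mulVec, ← pow_succ']
  rcases j with j | j <;> fin_cases j
  · exact ⟨0, h0⟩
  · exact ⟨1, h1⟩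
  · exact ⟨2, h2⟩
  · exact ⟨3, h3⟩
  · exact ⟨4, h4⟩
  · exact ⟨5, h5⟩

/-- the element of `Sp_6(3)` -/
def a7s : symplecticGroup (Fin 3) (ZMod 3) := ⟨a7, SymplecticGroup.mem_iff.2 a7_sp⟩

theorem a7s_pow : a7s ^ 7 = 1 := Subtype.ext a7_pow

theorem a7_cent : Nat.card (Subgroup.centralizer ({a7s} : Set (symplecticGroup (Fin 3) (ZMod 3)))) ≤ 28 := by
  rw [← a7_card]
  refine card_cent_le a7s v63 a7E a7Ei a7_E a7_col a7T co63 co63_inj fun b hb => ?_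
  have e1 : ∀ x : Fin 3 ⊕ Fin 3 → ZMod 3, J (Fin 3) (ZMod 3) *ᵥ (a7 ^ 1 *ᵥ x) = a7M1 *ᵥ x := by
    intro x
    rw [mulVec_mulVec, pow_one, a7_M1]
  have e2 : ∀ x : Fin 3 ⊕ Fin 3 → ZMod 3, J (Fin 3) (ZMod 3) *ᵥ (a7 ^ 2 *ᵥ x) = a7M2 *ᵥ x := by
    intro x
    rw [mulVec_mulVec, pow_succ, pow_one, ← Matrix.mul_assoc, a7_M1, a7_M2]
  have e3 : ∀ x : Fin 3 ⊕ Fin 3 → ZMod 3, J (Fin 3) (ZMod 3) *ᵥ (a7 ^ 3 *ᵥ x) = a7M3 *ᵥ x := by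
    intro x
    rw [mulVec_mulVec, pow_succ, pow_succ, pow_one, ← Matrix.mul_assoc, ← Matrix.mul_assoc, a7_M1, a7_M2,
      a7_M3]
  have h1 := hb 1
  have h2 := hb 2
  have h3 := hb 3
  change b ⬝ᵥ (J (Fin 3) (ZMod 3) *ᵥ (a7 ^ 1 *ᵥ b)) = v63 ⬝ᵥ (J (Fin 3) (ZMod 3) *ᵥ (a7 ^ 1 *ᵥ v63)) at h1
  change b ⬝ᵥ (J (Fin 3) (ZMod 3) *ᵥ (a7 ^ 2 *ᵥ b)) = v63 ⬝ᵥ (J (Fin 3) (ZMod 3) *ᵥ (a7 ^ 2 *ᵥ v63)) at h2
  change b ⬝ᵥ (J (Fin 3) (ZMod 3) *ᵥ (a7 ^ 3 *ᵥ b)) = v63 ⬝ᵥ (J (Fin 3) (ZMod 3) *ᵥ (a7 ^ 3 *ᵥ v63)) at h3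
  rw [e1, e1, a7_v1] at h1
  rw [e2, e2, a7_v2] at h2
  rw [e3, e3, a7_v3] at h3
  rw [a7T, Finset.mem_filter, vec_co63]
  exact ⟨Finset.mem_univ _, h1, h2, h3⟩

/-- an element of order 13 -/
def a13 : M63 := fromBlocks !![0, 1, 0; 2, 2, 2; 0, 1, 0] !![2, 0, 2; 0, 2, 0; 0, 0, 1]
    !![0, 2, 2; 0, 0, 0; 0, 0, 1] !![0, 2, 0; 2, 0, 0; 0, 2, 1]

/-- the cyclic basis -/
def a13E : M63 := fromBlocks !![1, 0, 2; 0, 2, 1; 0, 0, 2] !![0, 2, 2; 1, 2, 2; 1, 0, 0]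
    !![0, 0, 1; 0, 0, 0; 0, 0, 0] !![0, 2, 1; 2, 0, 1; 2, 1, 1]

/-- the inverse -/
def a13Ei : M63 := fromBlocks !![1, 0, 0; 0, 2, 1; 0, 0, 1] !![1, 1, 2; 2, 2, 1; 2, 2, 2]
    !![0, 0, 2; 0, 0, 0; 0, 0, 2] !![2, 2, 2; 0, 2, 1; 2, 0, 2]

/-- the form `ω(x, z ^ 1 y)` -/
def a13M1 : M63 := fromBlocks !![0, 1, 1; 0, 0, 0; 0, 0, 2] !![0, 1, 0; 1, 0, 0; 0, 1, 2]
    !![0, 1, 0; 2, 2, 2; 0, 1, 0] !![2, 0, 2; 0, 2, 0; 0, 0, 1]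

/-- the form `ω(x, z ^ 2 y)` -/
def a13M2 : M63 := fromBlocks !![2, 0, 2; 0, 2, 2; 0, 2, 2] !![2, 2, 1; 0, 2, 0; 2, 1, 1]
    !![2, 0, 2; 1, 2, 1; 2, 2, 0] !![0, 1, 2; 2, 1, 0; 0, 1, 1]

/-- the form `ω(x, z ^ 3 y)` -/
def a13M3 : M63 := fromBlocks !![0, 2, 2; 1, 0, 1; 1, 1, 0] !![2, 0, 1; 1, 1, 2; 2, 1, 0]
    !![0, 1, 2; 1, 1, 2; 1, 0, 2] !![0, 1, 2; 1, 2, 0; 0, 0, 2]

/-- the power 2 -/
def a13P2 : M63 := fromBlocks !![2, 0, 2; 1, 2, 1; 2, 2, 0] !![0, 1, 2; 2, 1, 0; 0, 1, 1]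
    !![1, 0, 1; 0, 1, 1; 0, 1, 1] !![1, 1, 2; 0, 1, 0; 1, 2, 2]

/-- the power 4 -/
def a13P4 : M63 := fromBlocks !![2, 1, 1; 2, 1, 1; 0, 0, 2] !![2, 0, 1; 0, 1, 1; 2, 1, 0]
    !![2, 2, 0; 0, 2, 2; 1, 2, 0] !![0, 2, 0; 2, 0, 1; 2, 0, 1]

/-- the power 8 -/
def a13P8 : M63 := fromBlocks !![2, 0, 2; 1, 1, 1; 1, 0, 0] !![2, 0, 1; 1, 2, 2; 0, 0, 1]
    !![2, 2, 2; 0, 2, 0; 2, 0, 0] !![2, 2, 0; 0, 2, 0; 1, 0, 1]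

/-- the power 12 -/
def a13P12 : M63 := fromBlocks !![0, 2, 0; 2, 0, 2; 0, 0, 1] !![1, 0, 0; 0, 1, 0; 1, 0, 2]
    !![0, 0, 0; 1, 0, 0; 1, 0, 2] !![0, 2, 0; 1, 2, 1; 0, 2, 0]

theorem a13_sp : a13 * J (Fin 3) (ZMod 3) * a13ᵀ = J (Fin 3) (ZMod 3) := by decide +kernel

theorem a13_E : a13E * a13Ei = 1 := by decide +kernel

theorem a13_M1 : J (Fin 3) (ZMod 3) * a13 = a13M1 := by decide +kernel

theorem a13_M2 : a13M1 * a13 = a13M2 := by decide +kernel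

theorem a13_M3 : a13M2 * a13 = a13M3 := by decide +kernel

theorem a13_P2 : a13 * a13 = a13P2 := by decide +kernel

theorem a13_P4 : a13P2 * a13P2 = a13P4 := by decide +kernel

theorem a13_P8 : a13P4 * a13P4 = a13P8 := by decide +kernel

theorem a13_P12 : a13P8 * a13P4 = a13P12 := by decide +kernel

theorem a13_P13 : a13P12 * a13 = 1 := by decide +kernel

theorem a13_pow : a13 ^ 13 = 1 := by
  have h2 : a13 ^ 2 = a13P2 := by rw [pow_two, a13_P2]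
  have h4 : a13 ^ 4 = a13P4 := by rw [show (4 : ℕ) = 2 + 2 from rfl, pow_add, h2, a13_P4]
  have h8 : a13 ^ 8 = a13P8 := by rw [show (8 : ℕ) = 4 + 4 from rfl, pow_add, h4, a13_P8]
  have h12 : a13 ^ 12 = a13P12 := by rw [show (12 : ℕ) = 8 + 4 from rfl, pow_add, h8, h4, a13_P12]
  rw [show (13 : ℕ) = 12 + 1 from rfl, pow_add, h12, pow_one, a13_P13]

/-- the vectors with the same products -/
def a13T : Finset T63 := Finset.univ.filter fun a =>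
  vec63 a ⬝ᵥ (a13M1 *ᵥ vec63 a) = 0 ∧ vec63 a ⬝ᵥ (a13M2 *ᵥ vec63 a) = 2 ∧
    vec63 a ⬝ᵥ (a13M3 *ᵥ vec63 a) = 0

theorem a13_card : a13T.card = 26 := by decide +kernel

theorem a13_v1 : v63 ⬝ᵥ (a13M1 *ᵥ v63) = 0 := by decide +kernel

theorem a13_v2 : v63 ⬝ᵥ (a13M2 *ᵥ v63) = 2 := by decide +kernel

theorem a13_v3 : v63 ⬝ᵥ (a13M3 *ᵥ v63) = 0 := by decide +kernel

theorem a13_col0 : (fun i => a13E i (Sum.inl 0)) = v63 := by decide +kernel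

theorem a13_col1 : (fun i => a13E i (Sum.inl 1)) = a13 *ᵥ (fun i => a13E i (Sum.inl 0)) := by
  decide +kernel

theorem a13_col2 : (fun i => a13E i (Sum.inl 2)) = a13 *ᵥ (fun i => a13E i (Sum.inl 1)) := by
  decide +kernel

theorem a13_col3 : (fun i => a13E i (Sum.inr 0)) = a13 *ᵥ (fun i => a13E i (Sum.inl 2)) := by
  decide +kernel

theorem a13_col4 : (fun i => a13E i (Sum.inr 1)) = a13 *ᵥ (fun i => a13E i (Sum.inr 0)) := by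
  decide +kernel

theorem a13_col5 : (fun i => a13E i (Sum.inr 2)) = a13 *ᵥ (fun i => a13E i (Sum.inr 1)) := by
  decide +kernel

theorem a13_col (j : Fin 3 ⊕ Fin 3) : ∃ n : ℕ, (fun i => a13E i j) = a13 ^ n *ᵥ v63 := by
  have h0 : (fun i => a13E i (Sum.inl 0)) = a13 ^ 0 *ᵥ v63 := by
    rw [pow_zero, one_mulVec, a13_col0]
  have h1 : (fun i => a13E i (Sum.inl 1)) = a13 ^ 1 *ᵥ v63 := by
    rw [a13_col1, h0, mulVec_mulVec, ← pow_succ']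
  have h2 : (fun i => a13E i (Sum.inl 2)) = a13 ^ 2 *ᵥ v63 := by
    rw [a13_col2, h1, mulVec_mulVec, ← pow_succ']
  have h3 : (fun i => a13E i (Sum.inr 0)) = a13 ^ 3 *ᵥ v63 := by
    rw [a13_col3, h2, mulVec_mulVec, ← pow_succ']
  have h4 : (fun i => a13E i (Sum.inr 1)) = a13 ^ 4 *ᵥ v63 := by
    rw [a13_col4, h3, mulVec_mulVec, ← pow_succ']
  have h5 : (fun i => a13E i (Sum.inr 2)) = a13 ^ 5 *ᵥ v63 := by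
    rw [a13_col5, h4, mulVec_mulVec, ← pow_succ']
  rcases j with j | j <;> fin_cases j
  · exact ⟨0, h0⟩
  · exact ⟨1, h1⟩
  · exact ⟨2, h2⟩
  · exact ⟨3, h3⟩
  · exact ⟨4, h4⟩
  · exact ⟨5, h5⟩

/-- the element of `Sp_6(3)` -/
def a13s : symplecticGroup (Fin 3) (ZMod 3) := ⟨a13, SymplecticGroup.mem_iff.2 a13_sp⟩

theorem a13s_pow : a13s ^ 13 = 1 := Subtype.ext a13_pow

theorem a13_cent : Nat.card (Subgroup.centralizer ({a13s} : Set (symplecticGroup (Fin 3) (ZMod 3)))) ≤ 26 := by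
  rw [← a13_card]
  refine card_cent_le a13s v63 a13E a13Ei a13_E a13_col a13T co63 co63_inj fun b hb => ?_
  have e1 : ∀ x : Fin 3 ⊕ Fin 3 → ZMod 3, J (Fin 3) (ZMod 3) *ᵥ (a13 ^ 1 *ᵥ x) = a13M1 *ᵥ x := by
    intro x
    rw [mulVec_mulVec, pow_one, a13_M1]
  have e2 : ∀ x : Fin 3 ⊕ Fin 3 → ZMod 3, J (Fin 3) (ZMod 3) *ᵥ (a13 ^ 2 *ᵥ x) = a13M2 *ᵥ x := by
    intro x
    rw [mulVec_mulVec, pow_succ, pow_one, ← Matrix.mul_assoc, a13_M1, a13_M2]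
  have e3 : ∀ x : Fin 3 ⊕ Fin 3 → ZMod 3, J (Fin 3) (ZMod 3) *ᵥ (a13 ^ 3 *ᵥ x) = a13M3 *ᵥ x := by
    intro x
    rw [mulVec_mulVec, pow_succ, pow_succ, pow_one, ← Matrix.mul_assoc, ← Matrix.mul_assoc, a13_M1, a13_M2,
      a13_M3]
  have h1 := hb 1
  have h2 := hb 2
  have h3 := hb 3
  change b ⬝ᵥ (J (Fin 3) (ZMod 3) *ᵥ (a13 ^ 1 *ᵥ b)) = v63 ⬝ᵥ (J (Fin 3) (ZMod 3) *ᵥ (a13 ^ 1 *ᵥ v63)) at h1
  change b ⬝ᵥ (J (Fin 3) (ZMod 3) *ᵥ (a13 ^ 2 *ᵥ b)) = v63 ⬝ᵥ (J (Fin 3) (ZMod 3) *ᵥ (a13 ^ 2 *ᵥ v63)) at h2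
  change b ⬝ᵥ (J (Fin 3) (ZMod 3) *ᵥ (a13 ^ 3 *ᵥ b)) = v63 ⬝ᵥ (J (Fin 3) (ZMod 3) *ᵥ (a13 ^ 3 *ᵥ v63)) at h3
  rw [e1, e1, a13_v1] at h1
  rw [e2, e2, a13_v2] at h2
  rw [e3, e3, a13_v3] at h3
  rw [a13T, Finset.mem_filter, vec_co63]
  exact ⟨Finset.mem_univ _, h1, h2, h3⟩

/-- an element with square `-1` which commutes with `a7` -/
def a4 : M63 := fromBlocks !![2, 0, 2; 2, 1, 1; 1, 0, 0] !![0, 2, 2; 2, 1, 0; 2, 0, 1]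
    !![2, 1, 0; 1, 2, 1; 0, 1, 0] !![1, 1, 2; 0, 2, 0; 1, 2, 0]

theorem a4_sp : a4 * J (Fin 3) (ZMod 3) * a4ᵀ = J (Fin 3) (ZMod 3) := by decide +kernel

theorem a4_sq : a4 * a4 = -1 := by decide +kernel

theorem a4_comm : a4 * a7 = a7 * a4 := by decide +kernel

/-- the element of `Sp_6(3)` -/
def a4s : symplecticGroup (Fin 3) (ZMod 3) := ⟨a4, SymplecticGroup.mem_iff.2 a4_sp⟩

end Cfsg.Agent.H333.OZ
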