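import Cfsg.Agent.ClassicalGeometry.SympInvolutions
import Cfsg.Prelude.Def_Classical

/-!
# Centralizers of elements with a cyclic vector in `Sp_{2m}` and `PSp_{2m}` (helper333, S4842)

* `card_cent_le` : `z` in `Sp_{2m}(F)` with a cyclic vector `v`: `|C(z)|` is at most the number of vectors `b` with
  `ω(b, z ^ k b) = ω(v, z ^ k v)`;
* `card_quot` : `|C(z)| = 2 |C(z̄)|` for `z ^ r = 1`, `r` odd, `char F ≠ 2`.
-/

set_option autoImplicit false
set_option linter.unusedSectionVars false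

namespace Cfsg.Agent.H333.OZ

open Matrix Cfsg

universe u

section sp

variable {F : Type u} [Field F] {m : ℕ}

theorem mem_cent' {G : Type*} [Group G] {g z : G} : g ∈ Subgroup.centralizer ({z} : Set G) ↔ g * z = z * g :=
  Subgroup.mem_centralizer_singleton_iff

/-- the commutation of matrices -/
theorem mat_comm {g z : symplecticGroup (Fin m) F} (h : g * z = z * g) (n : ℕ) (v : Fin m ⊕ Fin m → F) :
    (g : Matrix (Fin m ⊕ Fin m) (Fin m ⊕ Fin m) F) *ᵥ
        ((z : Matrix (Fin m ⊕ Fin m) (Fin m ⊕ Fin m) F) ^ n *ᵥ v) =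
      (z : Matrix (Fin m ⊕ Fin m) (Fin m ⊕ Fin m) F) ^ n *ᵥ
        ((g : Matrix (Fin m ⊕ Fin m) (Fin m ⊕ Fin m) F) *ᵥ v) := by
  have h1 : (g : Matrix (Fin m ⊕ Fin m) (Fin m ⊕ Fin m) F) * (z : Matrix (Fin m ⊕ Fin m) (Fin m ⊕ Fin m) F) =
      (z : Matrix (Fin m ⊕ Fin m) (Fin m ⊕ Fin m) F) * (g : Matrix (Fin m ⊕ Fin m) (Fin m ⊕ Fin m) F) :=
    congrArg Subtype.val h
  have h2 : Commute (g : Matrix (Fin m ⊕ Fin m) (Fin m ⊕ Fin m) F)
      (z : Matrix (Fin m ⊕ Fin m) (Fin m ⊕ Fin m) F) := h1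
  rw [Matrix.mulVec_mulVec, Matrix.mulVec_mulVec, (h2.pow_right n).eq]

/-- the form is preserved -/
theorem form_eq (g : symplecticGroup (Fin m) F) (x y : Fin m ⊕ Fin m → F) :
    ((g : Matrix (Fin m ⊕ Fin m) (Fin m ⊕ Fin m) F) *ᵥ x) ⬝ᵥ
        (J (Fin m) F *ᵥ ((g : Matrix (Fin m ⊕ Fin m) (Fin m ⊕ Fin m) F) *ᵥ y)) =
      x ⬝ᵥ (J (Fin m) F *ᵥ y) := by
  have h := SymplecticGroup.mem_iff'.1 g.2
  rw [Matrix.mulVec_mulVec, Matrix.dotProduct_mulVec, Matrix.vecMul_mulVec, ← Matrix.mul_assoc, h,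
    ← Matrix.dotProduct_mulVec]

variable [Finite F]

/-- **Centralizers of cyclic elements of `Sp_{2m}(F)`.** -/
theorem card_cent_le {ι : Type*} [DecidableEq ι] (z : symplecticGroup (Fin m) F) (v : Fin m ⊕ Fin m → F)
    (E E' : Matrix (Fin m ⊕ Fin m) (Fin m ⊕ Fin m) F) (hE : E * E' = 1)
    (hcol : ∀ j, ∃ n : ℕ, (fun i => E i j) = (z : Matrix (Fin m ⊕ Fin m) (Fin m ⊕ Fin m) F) ^ n *ᵥ v)
    (T : Finset ι) (f : (Fin m ⊕ Fin m → F) → ι) (hf : Function.Injective f)
    (hT : ∀ b : Fin m ⊕ Fin m → F, (∀ n : ℕ,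
      b ⬝ᵥ (J (Fin m) F *ᵥ ((z : Matrix (Fin m ⊕ Fin m) (Fin m ⊕ Fin m) F) ^ n *ᵥ b)) =
      v ⬝ᵥ (J (Fin m) F *ᵥ ((z : Matrix (Fin m ⊕ Fin m) (Fin m ⊕ Fin m) F) ^ n *ᵥ v))) → f b ∈ T) :
    Nat.card (Subgroup.centralizer ({z} : Set (symplecticGroup (Fin m) F))) ≤ T.card := by
  have hmem : ∀ g : Subgroup.centralizer ({z} : Set (symplecticGroup (Fin m) F)),
      f (((g : symplecticGroup (Fin m) F) : Matrix (Fin m ⊕ Fin m) (Fin m ⊕ Fin m) F) *ᵥ v) ∈ T := by
    intro g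
    refine hT _ fun n => ?_
    rw [← mat_comm (mem_cent'.1 g.2) n v, form_eq]
  rw [← Nat.card_eq_finsetCard T]
  refine Nat.card_le_card_of_injective (fun g => (⟨_, hmem g⟩ : T)) ?_
  intro g g' hgg
  have h1 := hf (congrArg Subtype.val hgg)
  apply Subtype.ext
  apply Subtype.ext
  -- the columns of `g * E`
  have h2 : ((g : symplecticGroup (Fin m) F) : Matrix (Fin m ⊕ Fin m) (Fin m ⊕ Fin m) F) * E =
      ((g' : symplecticGroup (Fin m) F) : Matrix (Fin m ⊕ Fin m) (Fin m ⊕ Fin m) F) * E := by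
    ext i j
    obtain ⟨n, hn⟩ := hcol j
    have h3 : ∀ A : Matrix (Fin m ⊕ Fin m) (Fin m ⊕ Fin m) F, (A * E) i j = (A *ᵥ (fun i => E i j)) i := by
      intro A
      rfl
    rw [h3, h3, hn, mat_comm (mem_cent'.1 g.2), mat_comm (mem_cent'.1 g'.2), h1]
  have h3 := congrArg (fun A => A * E') h2
  simp only [Matrix.mul_assoc, hE, Matrix.mul_one] at h3
  exact h3

end sp

section psp

variable {F : Type u} [Field F] [Finite F] {m : ℕ}

theorem finite_sp : Finite (symplecticGroup (Fin m) F) := Subtype.finite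

/-- `-1` -/
def neg1 (m : ℕ) (F : Type u) [Field F] : symplecticGroup (Fin m) F := ⟨-1, by
  rw [SymplecticGroup.mem_iff]
  simp⟩

theorem neg1_center : neg1 m F ∈ Subgroup.center (symplecticGroup (Fin m) F) := by
  rw [Subgroup.mem_center_iff]
  intro g
  apply Subtype.ext
  change (g : Matrix (Fin m ⊕ Fin m) (Fin m ⊕ Fin m) F) * -1 =
    -1 * (g : Matrix (Fin m ⊕ Fin m) (Fin m ⊕ Fin m) F)
  simp

theorem neg1_ne (hm : 1 ≤ m) (h2 : (2 : F) ≠ 0) : neg1 m F ≠ 1 := by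
  intro h
  have h1 := congrArg Subtype.val h
  have h3 := congrFun (congrFun h1 (Sum.inl ⟨0, hm⟩)) (Sum.inl ⟨0, hm⟩)
  change (-1 : Matrix (Fin m ⊕ Fin m) (Fin m ⊕ Fin m) F) _ _ = (1 : Matrix _ _ F) _ _ at h3
  rw [Matrix.neg_apply, Matrix.one_apply_eq] at h3
  apply h2
  linear_combination -h3

/-- **From `Sp` to `PSp`.** -/
theorem card_quot (hm : 1 ≤ m) (h2 : (2 : F) ≠ 0) {z : symplecticGroup (Fin m) F} {r : ℕ} (hr : Odd r)
    (hz : z ^ r = 1) :
    2 * Nat.card (Subgroup.centralizer ({(QuotientGroup.mk z : PSp m F)} : Set (PSp m F))) ≤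
      Nat.card (Subgroup.centralizer ({z} : Set (symplecticGroup (Fin m) F))) := by
  have hfin := finite_sp (F := F) (m := m)
  -- commuting modulo the centre is commuting
  have hc : ∀ g : symplecticGroup (Fin m) F, (QuotientGroup.mk g : PSp m F) * QuotientGroup.mk z =
      QuotientGroup.mk z * QuotientGroup.mk g → g * z = z * g := by
    intro g hg
    have h1 : (z * g)⁻¹ * (g * z) ∈ Subgroup.center (symplecticGroup (Fin m) F) := by
      rw [← QuotientGroup.eq]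
      exact hg.symm
    obtain ⟨c, hc, hcz⟩ : ∃ c ∈ Subgroup.center (symplecticGroup (Fin m) F), g * z * g⁻¹ = z * c := by
      refine ⟨_, h1, ?_⟩
      have h3 := Subgroup.mem_center_iff.1 h1 (z * g)
      have h4 : g * z = z * g * ((z * g)⁻¹ * (g * z)) := by group
      have h5 := Subgroup.mem_center_iff.1 h1 g
      calc g * z * g⁻¹ = z * g * ((z * g)⁻¹ * (g * z)) * g⁻¹ := by rw [← h4]
        _ = z * (g * ((z * g)⁻¹ * (g * z))) * g⁻¹ := by group
        _ = z * (((z * g)⁻¹ * (g * z)) * g) * g⁻¹ := by rw [h5]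
        _ = _ := by group
    have h3 : c ^ r = 1 := by
      have h4 : (g * z * g⁻¹) ^ r = 1 := by rw [conj_pow, hz, mul_one, mul_inv_cancel]
      have h5 : Commute z c := Subgroup.mem_center_iff.1 hc z
      rw [hcz, h5.mul_pow, hz, one_mul] at h4
      exact h4
    have h4 : c ^ 2 = 1 := by
      apply Subtype.ext
      change (c : Matrix (Fin m ⊕ Fin m) (Fin m ⊕ Fin m) F) ^ 2 = 1
      rcases ClassicalGeometry.SympInvolutions.center_eq hc with h | h <;> rw [h] <;> simp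
    have h5 : c = 1 := by
      obtain ⟨k, rfl⟩ := hr
      rw [pow_succ, pow_mul, h4, one_pow, one_mul] at h3
      exact h3
    rw [h5, mul_one, mul_inv_eq_iff_eq_mul] at hcz
    exact hcz
  -- the homomorphism
  let φ : Subgroup.centralizer ({z} : Set (symplecticGroup (Fin m) F)) →*
      Subgroup.centralizer ({(QuotientGroup.mk z : PSp m F)} : Set (PSp m F)) :=
    ((QuotientGroup.mk' (Subgroup.center (symplecticGroup (Fin m) F))).comp (Subgroup.subtype _)).codRestrict _ (by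
      intro g
      rw [mem_cent']
      have h1 := congrArg (QuotientGroup.mk' (Subgroup.center (symplecticGroup (Fin m) F))) (mem_cent'.1 g.2)
      rw [map_mul, map_mul] at h1
      exact h1)
  have hφ : Function.Surjective φ := by
    rintro ⟨y, hy⟩
    obtain ⟨g, rfl⟩ := QuotientGroup.mk_surjective y
    rw [mem_cent'] at hy
    exact ⟨⟨g, mem_cent'.2 (hc g hy)⟩, rfl⟩
  have h1 : Nat.card φ.ker * Nat.card φ.range = Nat.card (Subgroup.centralizer ({z} : Set (symplecticGroup (Fin m) F))) := by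
    rw [← Subgroup.index_ker φ, Subgroup.card_mul_index]
  have h3 : Nat.card φ.range =
      Nat.card (Subgroup.centralizer ({(QuotientGroup.mk z : PSp m F)} : Set (PSp m F))) := by
    rw [MonoidHom.range_eq_top.2 hφ]
    exact Nat.card_congr Subgroup.topEquiv.toEquiv
  have h4 : 2 ≤ Nat.card φ.ker := by
    let n1 : Subgroup.centralizer ({z} : Set (symplecticGroup (Fin m) F)) :=
      ⟨neg1 m F, mem_cent'.2 (Subgroup.mem_center_iff.1 neg1_center z).symm⟩
    have h5 : n1 ∈ φ.ker := by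
      rw [MonoidHom.mem_ker]
      apply Subtype.ext
      exact (QuotientGroup.eq_one_iff _).2 neg1_center
    have h6 : n1 ≠ 1 := fun h => neg1_ne hm h2 (congrArg Subtype.val h)
    have : Nontrivial φ.ker := ⟨⟨⟨n1, h5⟩, 1, fun h => h6 (congrArg Subtype.val h)⟩⟩
    exact Finite.one_lt_card
  rw [← h1, h3]
  exact Nat.mul_le_mul_right _ h4

end psp

end Cfsg.Agent.H333.OZ
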